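import Groth.Agent.EssDimH.Points
import Groth.Agent.StkBase.Yoneda
import Groth.Prelude.Def_EssDim
import Groth.Prelude.Def_AlgSt3

/-!
The essential dimension of an object is bounded by that of its image plus the relative dimension.
-/

set_option autoImplicit false
set_option backward.isDefEq.respectTransparency false
set_option backward.isDefEq.respectTransparency.types false

universe u

open CategoryTheory CategoryTheory.Limits AlgebraicGeometry Opposite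
open Groth.StkBase

noncomputable section

namespace Groth.EssDimH

variable {k : Type u} [Field k]

theorem exists_algHom_of_hom {A B : Type u} [Field A] [Algebra k A] [Field B] [Algebra k B]
    (c : SGA7.pt (K := k) B ⟶ SGA7.pt (K := k) A) : ∃ f : A →ₐ[k] B, EssDim.resPt f = c := by
  let φ : CommRingCat.of A ⟶ CommRingCat.of B := Spec.preimage c.left
  have hφ : CommRingCat.ofHom (algebraMap k A) ≫ φ = CommRingCat.ofHom (algebraMap k B) := by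
    apply Spec.map_injective
    rw [Spec.map_comp, Spec.map_preimage]
    exact Over.w c
  refine ⟨{ φ.hom with commutes' := fun z => congrArg (fun ψ => ψ.hom z) hφ }, ?_⟩
  apply Over.OverMorphism.ext
  rw [EssDim.resPt_left]
  exact Spec.map_preimage c.left

/-- A morphism over `Spec L ⟶ Spec A` computes the restriction of classes. -/
theorem fmap_mk_eq (𝒳 : AlgSt.Cat (Spec (CommRingCat.of k))) [FibCat.IsFibGrpd 𝒳.p]
    {A L : Type u} [Field A] [Algebra k A] [Field L] [Algebra k L] (f : A →ₐ[k] L)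
    (x : StkCnt.pts 𝒳 L) (x₁ : StkCnt.pts 𝒳 A) (φ : x.1 ⟶ x₁.1)
    (hφ : 𝒳.p.IsHomLift (EssDim.resPt f) φ) :
    EssDim.fmap (P := Gerb.isoClPsh 𝒳) f (Quot.mk (Gerb.IsoRel 𝒳 (SGA7.pt (K := k) A)) x₁) =
      Quot.mk (Gerb.IsoRel 𝒳 (SGA7.pt (K := k) L)) x := by
  have hφ' : 𝒳.p.IsHomLift (EssDim.resPt f ≫ eqToHom x₁.2.symm) φ :=
    (IsHomLift.lift_comp_eqToHom_iff 𝒳.p (EssDim.resPt f) φ x₁.2.symm).mpr hφ
  obtain ⟨χ, hχ, -⟩ := Gerb.exists_hom_pull 𝒳 x₁.1 (EssDim.resPt f ≫ eqToHom x₁.2.symm) φ hφ'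
  change Quot.mk (Gerb.IsoRel 𝒳 _) (Gerb.pullFib 𝒳 (EssDim.resPt f) x₁) = _
  exact (Quot.sound (r := Gerb.IsoRel 𝒳 (SGA7.pt (K := k) L)) (a := x) ⟨⟨χ, hχ⟩⟩).symm

theorem fmap_fmap {P : (Over (Spec (CommRingCat.of k)))ᵒᵖ ⥤ Type (u + 1)} {A B C : Type u}
    [Field A] [Algebra k A] [Field B] [Algebra k B] [Field C] [Algebra k C] (g : A →ₐ[k] B) (h : B →ₐ[k] C)
    (z : EssDim.FPt P A) : EssDim.fmap h (EssDim.fmap g z) = EssDim.fmap (h.comp g) z := by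
  show P.map (EssDim.resPt h).op (P.map (EssDim.resPt g).op z) = P.map (EssDim.resPt (h.comp g)).op z
  rw [EssDim.resPt_comp, op_comp, P.map_comp]
  rfl

theorem edStAt_le_add (𝒳 𝒴 : AlgSt.Cat (Spec (CommRingCat.of k))) [FibCat.IsFibGrpd 𝒳.p] [FibCat.IsFibGrpd 𝒴.p]
    (F : 𝒳 ⥤ᵇ 𝒴) (d : ℕ)
    (hF : AlgSt.RepByAlgSpWith
      (AlgSp.LocP @LocallyOfFiniteType ⊓ AlgSp.IsQuasiSeparatedMor ⊓ fun _ _ g => CurvSt.RelDimLE d g) F)
    (L : Type u) [Field L] [Algebra k L] (x : StkCnt.pts 𝒳 L) :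
    EssDim.edStAt 𝒳 x ≤ EssDim.edStAt 𝒴 ⟨F.obj x.1, (F.w_obj x.1).trans x.2⟩ + d := by
  let y : StkCnt.pts 𝒴 L := ⟨F.obj x.1, (F.w_obj x.1).trans x.2⟩
  let ξ : EssDim.FPt (Gerb.isoClPsh 𝒴) L := Quot.mk (Gerb.IsoRel 𝒴 (SGA7.pt (K := k) L)) y
  have : Nonempty {K : IntermediateField k L // EssDim.Descends (Gerb.isoClPsh 𝒴) ξ K} :=
    ⟨⟨⊤, EssDim.descends_top ξ⟩⟩
  obtain ⟨⟨K, hK⟩, hmin⟩ := ciInf_mem
    fun K : {K : IntermediateField k L // EssDim.Descends (Gerb.isoClPsh 𝒴) ξ K} => Cardinal.toENat (Algebra.trdeg k K.1)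
  replace hmin : Cardinal.toENat (Algebra.trdeg k K) = EssDim.edStAt 𝒴 y := hmin
  obtain ⟨y₀, φ, hφ⟩ := (EssDim.descends_isoCl_iff 𝒴 y K).1 hK
  let hY : FibCat.IsFibGrpd 𝒴.p := inferInstance
  let Y := overFunctor hY y₀.1 y₀.2
  obtain ⟨i₀, hi₀⟩ := overFunctor_eval hY y₀.1 y₀.2
  let g : (FibCat.overCat (SGA7.pt (K := k) K)).obj := Over.mk (EssDim.resPt (K := K) (L := L) K.val)
  let φ₁ : Y.obj g ⟶ y₀.1 := Y.map (toId g) ≫ i₀.hom
  have hφm : 𝒴.p.map φ = eqToHom y.2 ≫ EssDim.resPt (K := K) (L := L) K.val ≫ eqToHom y₀.2.symm :=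
    IsHomLift.fac' 𝒴.p _ φ
  obtain ⟨ι, hι, -⟩ := exists_vert_iso_of_lifts hY φ₁ φ ((Y.w_obj g).trans y.2.symm) (by
    rw [Functor.map_comp, hi₀.map_eq, hφm]
    have hmap : 𝒴.p.map (Y.map (toId g)) = eqToHom (Y.w_obj g) ≫
        (FibCat.overCat (SGA7.pt (K := k) K)).p.map (toId g) ≫ eqToHom (Y.w_obj (idObj _)).symm :=
      IsHomLift.fac' 𝒴.p ((FibCat.overCat _).p.map (toId g)) (Y.map (toId g))
    rw [hmap]
    simp [g, overCat_map])
  have ho : FibCat.fpProp Y F ⟨g, x.1, ι⟩ :=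
    IsHomLift.of_fac' 𝒴.p _ _ (Y.w_obj g) (((F.w_obj x.1).trans x.2)) (by
      rw [hι.map_eq]; simp)
  let o : (FibCat.fp Y F).obj := ⟨⟨g, x.1, ι⟩, ho⟩
  obtain ⟨Q, e, ⟨G, -, ⟨γ⟩⟩, ⟨hlft, hqs⟩, hdim⟩ := hF (SGA7.pt (K := k) K) Y
  let Φ := AlgSt.spMapOfOver (BasedFunctor.comp e (FibCat.fpFst Y F))
  -- the section over `Spec L`
  have hbase : (G.obj o).base = SGA7.pt (K := k) L := G.w_obj o
  obtain ⟨s, hs⟩ : ∃ s : Q.obj.obj.obj (op (SGA7.pt (K := k) L)),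
      ∃ χ : x.1 ⟶ (FibCat.fpSnd Y F).obj (e.obj ⟨SGA7.pt (K := k) L, s⟩), IsVert 𝒳.p χ := by
    generalize hGo : G.obj o = o' at hbase
    obtain ⟨B, s⟩ := o'
    obtain rfl : B = SGA7.pt (K := k) L := hbase
    refine ⟨s, ?_⟩
    have hv := isVert_isoApp γ o
    let j : x.1 ⟶ (FibCat.fpSnd Y F).obj ((BasedFunctor.comp G e).obj o) :=
      (FibCat.fpSnd Y F).map (isoApp γ o).inv
    have hj : IsVert 𝒳.p j := by
      have := (isVert_app γ.inv o)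
      exact isVert_map (F := FibCat.fpSnd Y F) this
    rw [← hGo]
    exact ⟨j, hj⟩
  obtain ⟨χ, hχ⟩ := hs
  let q : AlgSp.FieldPt Q.obj := ⟨L, (SGA7.pt (K := k) L).hom, s⟩
  obtain ⟨p, c, m, hc, hle⟩ := exists_mono_pt_trdeg_le Φ d hlft hqs hdim q
  obtain ⟨A, str, val⟩ := p
  obtain ⟨φA, rfl⟩ := Spec.map_surjective str
  let : Algebra k A := φA.hom.toAlgebra
  obtain ⟨f, hf⟩ := exists_algHom_of_hom (A := A) (B := L) c
  obtain ⟨g', hg'⟩ := exists_algHom_of_hom (A := K) (B := A) m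
  have hcs : Q.obj.obj.map c.op val = s := by
    have := congrArg (AlgSp.J _).uliftYonedaEquiv hc
    rw [GrothendieckTopology.uliftYonedaEquiv_comp, GrothendieckTopology.uliftYonedaEquiv_uliftYoneda_map] at this
    rw [AlgSp.FieldPt.uliftYonedaEquiv_toHom] at this
    refine Eq.trans ?_ this
    exact (AlgSp.FieldPt.toHom_app ⟨A, _, val⟩ c).symm
  let o₁ : (AlgSt.ofSp Q.obj).obj := ⟨SGA7.pt (K := k) A, val⟩
  let ψ : (⟨SGA7.pt (K := k) L, s⟩ : (AlgSt.ofSp Q.obj).obj) ⟶ o₁ := ⟨c, hcs⟩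
  let eo := BasedFunctor.comp e (FibCat.fpSnd Y F)
  let x₁ : StkCnt.pts 𝒳 A := ⟨eo.obj o₁, eo.w_obj o₁⟩
  have hlift : 𝒳.p.IsHomLift (EssDim.resPt f) (χ ≫ eo.map ψ) := by
    rw [hf]
    refine IsHomLift.of_fac' 𝒳.p _ _ x.2 x₁.2 ?_
    have hmap : 𝒳.p.map (eo.map ψ) = eqToHom (eo.w_obj _) ≫ c ≫ eqToHom (eo.w_obj o₁).symm :=
      IsHomLift.fac' 𝒳.p ((AlgSt.ofSp Q.obj).p.map ψ) (eo.map ψ)
    rw [Functor.map_comp, hχ.map_eq, hmap, eqToHom_trans_assoc]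
  have hcl := fmap_mk_eq 𝒳 f x x₁ (χ ≫ eo.map ψ) hlift
  let ef : A ≃ₐ[k] f.fieldRange := AlgEquiv.ofInjectiveField f
  have hdes : EssDim.Descends (Gerb.isoClPsh 𝒳) (Quot.mk (Gerb.IsoRel 𝒳 (SGA7.pt (K := k) L)) x) f.fieldRange := by
    refine ⟨EssDim.fmap (P := Gerb.isoClPsh 𝒳) ef.toAlgHom (Quot.mk (Gerb.IsoRel 𝒳 (SGA7.pt (K := k) A)) x₁), ?_⟩
    rw [← hcl]
    refine (fmap_fmap (P := Gerb.isoClPsh 𝒳) ef.toAlgHom f.fieldRange.val _).trans ?_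
    rfl
  refine (EssDim.edAt_le_of_descends hdes).trans ?_
  rw [← ef.trdeg_eq, ← hmin]
  let : Algebra K A := g'.toRingHom.toAlgebra
  have : IsScalarTower k K A := IsScalarTower.of_algebraMap_eq fun z => (g'.commutes z).symm
  rw [← trdeg_add_eq k K (A := A), map_add]
  refine add_le_add le_rfl ?_
  have hpre : (Spec.preimage m.left).hom = g'.toRingHom := by
    have : Spec.preimage m.left = CommRingCat.ofHom g'.toRingHom := by
      apply Spec.map_injective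
      rw [Spec.map_preimage, ← hg']
      rfl
    rw [this]
    rfl
  have h2 : @Algebra.trdeg K A _ _ ((Spec.preimage m.left).hom).toAlgebra = Algebra.trdeg K A :=
    congrArg (fun a => @Algebra.trdeg K A _ _ a) (congrArg RingHom.toAlgebra hpre)
  exact (congrArg Cardinal.toENat h2).ge.trans hle

end Groth.EssDimH
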