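import Groth.Agent.AlgSp2.Decency
import Groth.Agent.AlgSp2.MonoPoint
import Groth.Agent.AlgSpBasic.LocPInst
import Groth.Agent.Variety2.DimTrdeg
import Groth.Prelude.Def_StCurv2

/-!
Residue fields of points of algebraic spaces over a field: factorisation and the transcendence degree bound.
-/

set_option autoImplicit false

universe u

open CategoryTheory CategoryTheory.Limits AlgebraicGeometry Opposite

noncomputable section

namespace Groth.EssDimH

open AlgSp Groth.AlgSp2

variable {S : Scheme.{u}} {F : Sp S}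

/-- A point factors through a monomorphic representative of its class. -/
theorem exists_factor (p q : FieldPt F) [Mono p.toHom] (hp : Representable p.toHom)
    (h : Points.mk p = Points.mk q) : ∃ c : q.pt ⟶ p.pt, (yon S).map c ≫ p.toHom = q.toHom := by
  obtain ⟨E, e₁, e₂, sq⟩ := AlgSpBasic.exists_pullback_yon hp q.toHom
  rw [Points.mk_eq_mk_iff, rel_iff] at h
  obtain ⟨Ω, i, w, a, b, hab⟩ := h
  obtain ⟨l, -⟩ := (yon S).map_surjective (sq.lift ((yon S).map a) ((yon S).map b) hab)
  have : Nonempty E.left := ⟨l.left (IsLocalRing.closedPoint Ω)⟩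
  have : Mono e₂ := (yon S).mono_of_mono_map (mono_fst_of_isPullback sq.flip)
  have : IsIso ((Over.forget S).map e₂) := isIso_of_mono_to_field (K := q.K) e₂.left
  have : IsIso e₂ := isIso_of_reflects_iso e₂ (Over.forget S)
  refine ⟨CategoryTheory.inv e₂ ≫ e₁, ?_⟩
  rw [Functor.map_comp, Category.assoc, sq.w, ← Category.assoc, ← Functor.map_comp, IsIso.inv_hom_id,
    CategoryTheory.Functor.map_id, Category.id_comp]

/-- The dimension bound at a point of a scheme over an etale scheme over a field. -/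
theorem trdegAt_le_fibreDimAt {K : Type u} [Field K] {U V : Scheme.{u}} (h : U ⟶ V)
    (β : V ⟶ Spec (CommRingCat.of K)) [Etale β] [LocallyOfFiniteType h] (u : U) :
    ((Cardinal.toENat (Groth.Variety2.Dim.trdegAt (h ≫ β) u) : ℕ∞) : WithBot ℕ∞) ≤ FlatMor.fibreDimAt h u := by
  have : LocallyQuasiFinite β := locallyQuasiFinite_of_etale β
  have hdisc : _root_.IsDiscrete (β ⁻¹' {IsLocalRing.closedPoint K}) := β.isDiscrete_preimage_singleton _
  have hV : IsOpen ({h u} : Set V) := by
    have : DiscreteTopology V := by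
      have huniv : β ⁻¹' {IsLocalRing.closedPoint K} = Set.univ :=
        Set.eq_univ_of_forall fun v => Subsingleton.elim (α := ↥(Spec (CommRingCat.of K))) _ _
      rw [huniv] at hdisc
      exact discreteTopology_iff_isOpen_singleton.2 fun v => by
        have := hdisc.to_subtype
        have h1 : IsOpen ({⟨v, trivial⟩} : Set (Set.univ : Set V)) := isOpen_discrete _
        simpa using (isOpen_univ.isOpenMap_subtype_val _ h1)
    exact isOpen_discrete _
  unfold FlatMor.fibreDimAt FlatMor.localDim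
  refine le_iInf fun ⟨O, hO⟩ => ?_
  let ψ : ↥(h.fiber (h u)) → U := fun z => ((h.fiberHomeo (h u)) z).1
  have hemb : Topology.IsOpenEmbedding ψ :=
    (hV.preimage h.continuous).isOpenEmbedding_subtypeVal.comp (h.fiberHomeo (h u)).isOpenEmbedding
  let W : U.Opens := ⟨ψ '' O.1, hemb.isOpenMap _ O.2⟩
  have hu : u ∈ W := ⟨h.asFiber u, hO, by
    show ((h.fiberHomeo (h u)) (h.asFiber u)).1 = u
    rw [Scheme.Hom.asFiber, Homeomorph.apply_symm_apply]⟩
  obtain ⟨n, hn, hh⟩ := Groth.Variety2.Dim.exists_trdegAt_eq_height (W.ι ≫ h ≫ β) ⟨u, hu⟩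
  have h1 : Groth.Variety2.Dim.trdegAt (h ≫ β) u ≤ (n : Cardinal) := by
    rw [← hn, Groth.Variety2.Dim.trdegAt_eq_add (W.ι ≫ h ≫ β) (h ≫ β) W.ι rfl ⟨u, hu⟩]
    exact le_self_add
  have h2 : (Cardinal.toENat (Groth.Variety2.Dim.trdegAt (h ≫ β) u) : ℕ∞) ≤ n := by
    simpa using OrderHomClass.mono Cardinal.toENat h1
  refine (WithBot.coe_le_coe.2 h2).trans ?_
  have h3 : ((n : ℕ∞) : WithBot ℕ∞) ≤ Order.krullDim ↥W.toScheme := by
    rw [← hh]; exact Order.height_le_krullDim _
  refine h3.trans (le_of_eq ?_)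
  have h4 : Order.krullDim ↥W.toScheme = topologicalKrullDim ↥W.toScheme :=
    Order.krullDim_eq_of_orderIso (irreducibleSetEquivPoints (α := ↥W.toScheme)).symm
  rw [h4]
  exact (IsHomeomorph.topologicalKrullDim_eq _ ((hemb.isEmbedding.homeomorphImage O.1).isHomeomorph)).symm

/-- The residue field of a point of an algebraic space over a field has bounded transcendence degree. -/
theorem exists_mono_pt_trdeg_le {K : Type u} [Field K] {str : Spec (CommRingCat.of K) ⟶ S}
    {Q : Space S} (π : Q.obj ⟶ (yon S).obj (Over.mk str)) (d : ℕ)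
    (hlft : LocP @LocallyOfFiniteType π) (hqs : IsQuasiSeparatedMor π) (hdim : CurvSt.RelDimLE d π)
    (q : FieldPt Q.obj) :
    ∃ (p : FieldPt Q.obj) (c : q.pt ⟶ p.pt) (m : p.pt ⟶ Over.mk str),
      (yon S).map c ≫ p.toHom = q.toHom ∧
      Cardinal.toENat (@Algebra.trdeg K p.K _ _ ((Spec.preimage m.left).hom).toAlgebra) ≤ (d : ℕ∞) := by
  have hdec : IsDecent Q.obj := isDecent_of_isDecentMor
    (isDecentMor_of_qs Q.property (IsAlgSpace.yon_obj _) hqs) (isDecent_yon _)
  obtain ⟨p, hp, hm, hqc⟩ := hdec (Points.mk q)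
  obtain ⟨c, hc⟩ := exists_factor p q hqc.rep hp
  obtain ⟨m, hm'⟩ := (yon S).map_surjective (p.toHom ≫ π)
  refine ⟨p, c, m, hc, ?_⟩
  obtain ⟨U, V, a, b, h, u, ha, hb, hw, hu, hQ⟩ := hdim (Points.mk p)
  obtain ⟨β, rfl⟩ := (yon S).map_surjective b
  have : Etale β.left := (repWith_yon_map_iff _ _).1 hb
  have : LocallyOfFiniteType h.left := hlft a ((yon S).map β) h ha hb hw
  obtain ⟨c', hc'⟩ := exists_factor p (FieldPt.ofPt a u) hqc.rep hu.symm
  have e1 : c' ≫ m = Over.homMk (U.left.fromSpecResidueField u) rfl ≫ h ≫ β := by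
    apply (yon S).map_injective
    rw [Functor.map_comp, Functor.map_comp, Functor.map_comp, hm', ← Category.assoc, hc',
      FieldPt.toHom_ofPt, ← hw, Category.assoc]
  let φ : p.K →+* U.left.residueField u := (Spec.preimage c'.left).hom
  let := ((Spec.preimage m.left).hom).toAlgebra
  let := (Groth.Variety2.Dim.resHom (h.left ≫ β.left) u).toAlgebra
  have e2 : (φ.comp (Spec.preimage m.left).hom) = Groth.Variety2.Dim.resHom (h.left ≫ β.left) u := by
    have : CommRingCat.ofHom (φ.comp (Spec.preimage m.left).hom) =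
        CommRingCat.ofHom (Groth.Variety2.Dim.resHom (h.left ≫ β.left) u) := by
      apply Spec.map_injective
      rw [CommRingCat.ofHom_comp, Spec.map_comp, Groth.Variety2.Dim.resHom_spec]
      show Spec.map (Spec.preimage c'.left) ≫ Spec.map (Spec.preimage m.left) = _
      erw [Spec.map_preimage, Spec.map_preimage]
      exact congrArg CommaMorphism.left e1
    exact congrArg CommRingCat.Hom.hom this
  let φa : p.K →ₐ[K] U.left.residueField u := { φ with commutes' := fun z => RingHom.congr_fun e2 z }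
  have h1 : Algebra.trdeg K p.K ≤ Groth.Variety2.Dim.trdegAt (h.left ≫ β.left) u :=
    trdeg_le_of_injective φa φ.injective
  refine (OrderHomClass.mono Cardinal.toENat h1).trans ?_
  exact WithBot.coe_le_coe.1 ((trdegAt_le_fibreDimAt h.left β.left u).trans hQ)

end Groth.EssDimH
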